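import Cfsg.Agent.Lib.CoJ2.Elements
import Cfsg.Agent.Lib.J2.Check

/-! Kernel checks for the action on the 315 blocks. -/

set_option autoImplicit false
set_option maxRecDepth 100000
set_option Elab.async false

namespace Cfsg.Lib.CoJ2

open Cfsg
open Cfsg.Lib.Co1Out (dotList forceZ eList)

/-- The element of order five has order five. -/
def ordB : Bool := eqW [0, 0, 0, 0, 0] [] && !eqW [0] []

/-- The five powers of the element of order five sum to zero. -/
def cycB : Bool :=
  (List.finRange 24).all fun i =>
    evalL [0] (eList i) fun a => evalL [0] a fun b => evalL [0] b fun c => evalL [0] c fun d =>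
      (List.range 24).all fun j =>
        (eList i).getD j 0 + a.getD j 0 + b.getD j 0 + c.getD j 0 + d.getD j 0 == 0

/-- The commuting relations. -/
def commB : Bool :=
  ([1, 2, 3, 4] : List (Fin 8)).all fun g => ([0, 5, 6, 7] : List (Fin 8)).all fun e => eqW [g, e] [e, g]

/-- A word in the three further elements. -/
def eWord (w : List ℕ) : List (Fin 8) :=
  w.map fun k => bif Nat.beq k 0 then 5 else bif Nat.beq k 1 then 6 else 7

/-- The element of order five is a word. -/
def wordB : Bool :=
  eqW [0] (eWord wordA) &&
    (List.finRange 24).all fun i => evalL (eWord wordNeg) (eList i) fun a => a == (eList i).map Neg.neg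

/-- The representative of a block. -/
def repC (x : ℕ) : ℕ := blockReps.flatten.getD x 0

/-- All representatives are good. -/
def repB : Bool := Nat.beq blockReps.flatten.length 315 && (List.range 315).all fun x => goodC (repC x)

/-- The blocks move by the given permutations. -/
def moveB (k : ℕ) (g : Fin 8) (n : ℕ) : Bool :=
  (List.range' (63 * n) 63).all fun x =>
    evalL [g] (decV (repC x)) fun a =>
      evalL (eWord (moveWords.flatten.getD (315 * k + x) [])) (decV (repC (Cfsg.Lib.J2.app (Cfsg.Lib.J2.genP k) x)))
        fun b => a == b

/-- The first block as a list of codes. -/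
def zeroL : List ℕ := zeroBlock.flatten

/-- The first block is closed, contains its representative and misses another. -/
def zeroB : Bool :=
  zeroL.all goodC && zeroL.any (fun c => Nat.beq c (repC 0)) &&
    zeroL.all (fun c => !(decV c == decV (repC (Cfsg.Lib.J2.app (Cfsg.Lib.J2.genP moveGen) 0)))) &&
      ([5, 6, 7] : List (Fin 8)).all fun e => zeroL.all fun c =>
        evalL [e] (decV c) fun a => zeroL.any fun d => decV d == a

theorem ord_ok : ordB = true := by decide +kernel
theorem cyc_ok : cycB = true := by decide +kernel
theorem comm_ok : commB = true := by decide +kernel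
theorem word_ok : wordB = true := by decide +kernel
theorem rep_ok : repB = true := by decide +kernel
theorem move_ok00 : moveB 0 1 0 = true := by decide +kernel
theorem move_ok01 : moveB 0 1 1 = true := by decide +kernel
theorem move_ok02 : moveB 0 1 2 = true := by decide +kernel
theorem move_ok03 : moveB 0 1 3 = true := by decide +kernel
theorem move_ok04 : moveB 0 1 4 = true := by decide +kernel
theorem move_ok10 : moveB 1 2 0 = true := by decide +kernel
theorem move_ok11 : moveB 1 2 1 = true := by decide +kernel
theorem move_ok12 : moveB 1 2 2 = true := by decide +kernel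
theorem move_ok13 : moveB 1 2 3 = true := by decide +kernel
theorem move_ok14 : moveB 1 2 4 = true := by decide +kernel
theorem move_ok20 : moveB 2 3 0 = true := by decide +kernel
theorem move_ok21 : moveB 2 3 1 = true := by decide +kernel
theorem move_ok22 : moveB 2 3 2 = true := by decide +kernel
theorem move_ok23 : moveB 2 3 3 = true := by decide +kernel
theorem move_ok24 : moveB 2 3 4 = true := by decide +kernel
theorem move_ok30 : moveB 3 4 0 = true := by decide +kernel
theorem move_ok31 : moveB 3 4 1 = true := by decide +kernel
theorem move_ok32 : moveB 3 4 2 = true := by decide +kernel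
theorem move_ok33 : moveB 3 4 3 = true := by decide +kernel
theorem move_ok34 : moveB 3 4 4 = true := by decide +kernel
theorem zero_ok : zeroB = true := by decide +kernel

end Cfsg.Lib.CoJ2
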