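import Cfsg.Agent.Lib.Concrete.LeechCensus

/-! Fourth moments of the norm-32 vectors of the rank-24 lattice. -/

set_option autoImplicit false

namespace Cfsg.Lib.CoJ2

open Cfsg Cfsg.Lib.Concrete Finset

theorem oddMeet_check : (((List.finRange 24).sublistsLen 4).all fun s =>
    basisMasks.any fun b => (s.filter fun i => b.testBit i.val).length % 2 == 1) = true := by decide +kernel

theorem exists_odd_meet {s : Finset GolayPt} (hs : s.card = 4) :
    ∃ c ∈ codeSets, Odd (s.filter fun p => p ∈ c).card := by
  classical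
  set t : List (Fin 24) := (List.finRange 24).filter fun i => gpt i ∈ s with ht
  have ht4 : t.length = 4 := by
    rw [← hs, ← List.toFinset_card_of_nodup ((List.nodup_finRange 24).filter _)]
    refine (Finset.card_bij (fun i _ => gpt i) ?_ ?_ ?_)
    · intro i hi; simpa [ht] using hi
    · intro i _ j _ h; exact gpt_injective h
    · intro p hp; exact ⟨gidx p, by simp [ht, gpt_gidx, hp], gpt_gidx p⟩
  have h := List.all_eq_true.1 oddMeet_check t (List.mem_sublistsLen.2 ⟨List.filter_sublist, ht4⟩)
  obtain ⟨b, hb, hodd⟩ := List.any_eq_true.1 h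
  have hb' := List.all_eq_true.1 basis_mem_octads b hb
  simp only [Bool.and_eq_true, decide_eq_true_eq] at hb'
  refine ⟨mset b, (mset_mem_supports_iff hb'.1.2).2 hb'.1.1, ?_⟩
  rw [Nat.odd_iff]
  refine Eq.trans ?_ (beq_iff_eq.1 hodd)
  refine congrArg (· % 2) ?_
  rw [← List.toFinset_card_of_nodup (((List.nodup_finRange 24).filter _).filter _)]
  refine (Finset.card_bij (fun i _ => gpt i) ?_ ?_ ?_).symm
  · intro i hi; simpa [ht, mem_mset, gidx_gpt, and_comm] using hi
  · intro i _ j _ h; exact gpt_injective h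
  · intro p hp
    rw [Finset.mem_filter, mem_mset] at hp
    exact ⟨gidx p, by simp [ht, gpt_gidx, hp], gpt_gidx p⟩

theorem fourth_odd {a b : GolayPt} (h : a ≠ b) (c : GolayPt) :
    ∑ x ∈ shell 32, x a * x b * (x c * x c) = 0 := by
  obtain ⟨m, hm, ha, hb⟩ := exists_code_separating h
  have h1 := sum_shell32_flip hm fun x => x a * x b * (x c * x c)
  have e : ∀ x : GolayPt → ℤ, signedPerm 1 m x a * signedPerm 1 m x b * (signedPerm 1 m x c * signedPerm 1 m x c) =
      -(x a * x b * (x c * x c)) := fun x => by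
    simp only [signedPerm_one, if_pos ha, if_neg hb]
    split <;> ring
  simp only [e, Finset.sum_neg_distrib] at h1
  omega

theorem fourth_distinct {p q r s : GolayPt} (hpq : p ≠ q) (hpr : p ≠ r) (hps : p ≠ s) (hqr : q ≠ r) (hqs : q ≠ s)
    (hrs : r ≠ s) : ∑ x ∈ shell 32, x p * x q * (x r * x s) = 0 := by
  classical
  obtain ⟨m, hm, hodd⟩ := exists_odd_meet (s := {p, q, r, s}) (by simp [hpq, hpr, hps, hqr, hqs, hrs])
  have h1 := sum_shell32_flip hm fun x => x p * x q * (x r * x s)
  have e : ∀ x : GolayPt → ℤ, signedPerm 1 m x p * signedPerm 1 m x q * (signedPerm 1 m x r * signedPerm 1 m x s) =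
      -(x p * x q * (x r * x s)) := fun x => by
    simp only [Finset.filter_insert, Finset.filter_singleton] at hodd
    by_cases h1 : p ∈ m <;> by_cases h2 : q ∈ m <;> by_cases h3 : r ∈ m <;> by_cases h4 : s ∈ m <;>
      simp [signedPerm_one, h1, h2, h3, h4, hpq, hpr, hps, hqr, hqs, hrs, Nat.odd_iff] at hodd ⊢
  simp only [e, Finset.sum_neg_distrib] at h1
  omega

/-- A pair of fours. -/
def pairV (i j : GolayPt) : GolayPt → ℤ := fun p => (if p = i then 4 else 0) + (if p = j then 4 else 0)

theorem pairV_mem (i j : GolayPt) : pairV i j ∈ leechLattice := by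
  have hg : ∀ q, fourPair q ∈ leechLattice := fun q => (gens_mem (Or.inr ⟨q, rfl⟩)).1
  have e : pairV i j = fourPair i + fourPair j - Pi.single none 8 := by
    funext p
    simp only [pairV, fourPair, Pi.add_apply, Pi.sub_apply, Pi.single_apply]
    split_ifs <;> norm_num
  rw [e]
  exact sub_mem (add_mem (hg i) (hg j)) (eight_single_mem none 8 (by norm_num))

theorem dot_pairV (i j : GolayPt) (x : GolayPt → ℤ) : dotInt (pairV i j) x = 4 * x i + 4 * x j := by
  simp [dotInt, pairV, add_mul, Finset.sum_add_distrib]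

theorem pairV_shell {i j : GolayPt} (h : i ≠ j) : pairV i j ∈ shell 32 := by
  refine mem_shell.2 ⟨pairV_mem i j, ?_⟩
  rw [← dotInt_self, dot_pairV]
  simp [pairV, h, h.symm]

theorem dot_fourth_sum {u : GolayPt → ℤ} (hu : u ∈ shell 32) :
    ∑ x ∈ shell 32, dotInt u x ^ 4 = 990904320 := by
  have e := sum_values (shell 32) (fun x => dotInt u x) _ (fun x hx => dot_values hu hx (by norm_num)) fun v => v ^ 4
  have hc : ∀ k : ℤ, ((shell 32).filter fun x => dotInt u x = k).card = dotCount rep32 k := fun k =>
    dotCount_moves (shell_moves32 u hu) k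
  simp only [hc] at e
  repeat rw [Finset.sum_insert (by decide)] at e
  simp only [Finset.sum_singleton, dotCount_neg, dotCount_self] at e
  obtain ⟨h24, h16, h8, h0⟩ := census32
  rw [h24, h16, h8, h0] at e
  rw [e]
  norm_num

theorem fourth_pair {i j : GolayPt} (h : i ≠ j) :
    2 * ∑ x ∈ shell 32, x none ^ 4 + 6 * ∑ x ∈ shell 32, x i * x i * (x j * x j) = 3870720 := by
  have h1 := dot_fourth_sum (pairV_shell h)
  have e : ∀ x : GolayPt → ℤ, dotInt (pairV i j) x ^ 4 = 256 * x i ^ 4 + 256 * x j ^ 4 +
      1536 * (x i * x i * (x j * x j)) + 1024 * (x i * x j * (x i * x i)) + 1024 * (x i * x j * (x j * x j)) :=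
    fun x => by rw [dot_pairV]; ring
  simp only [e, Finset.sum_add_distrib, ← Finset.mul_sum, fourth_odd h] at h1
  rw [sum_coord (fun v => v ^ 4) i, sum_coord (fun v => v ^ 4) j] at h1
  linarith

theorem fourth_values : ∑ x ∈ shell 32, x none ^ 4 = 967680 ∧
    ∀ i j : GolayPt, i ≠ j → ∑ x ∈ shell 32, x i * x i * (x j * x j) = 322560 := by
  classical
  set B := ∑ x ∈ shell 32, x none ^ 4 with hB
  have hsum : ∑ x ∈ shell 32, (x none * x none) * ∑ j, x j ^ 2 = 32 * 262080 := by
    have hc : ∀ x ∈ shell 32, (x none * x none) * ∑ j, x j ^ 2 = (x none * x none) * 32 := fun x hx => by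
      rw [show ∑ j, x j ^ 2 = 32 from (mem_shell.1 hx).2]
    rw [Finset.sum_congr rfl hc]
    rw [← Finset.sum_mul, second_moment, if_pos rfl]
    norm_num
  rw [Finset.sum_congr rfl fun x _ => Finset.mul_sum _ _ _, Finset.sum_comm,
    ← Finset.add_sum_erase _ _ (Finset.mem_univ (none : GolayPt))] at hsum
  have h0 : ∑ x ∈ shell 32, x none * x none * x none ^ 2 = B := Finset.sum_congr rfl fun x _ => by ring
  have h6 : 6 * ∑ j ∈ (Finset.univ : Finset GolayPt).erase none, ∑ x ∈ shell 32, x none * x none * x j ^ 2 =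
      23 * (3870720 - 2 * B) := by
    rw [Finset.mul_sum, Finset.sum_congr rfl fun j hj => show 6 * ∑ x ∈ shell 32, x none * x none * x j ^ 2 =
        3870720 - 2 * B by
      have := fourth_pair (i := none) (j := j) (Finset.ne_of_mem_erase hj).symm
      simp only [sq]; linarith, Finset.sum_const, Finset.card_erase_of_mem (Finset.mem_univ _), Finset.card_univ,
      show Fintype.card GolayPt = 24 from rfl]
    norm_num
  have hb : B = 967680 := by linarith
  exact ⟨hb, fun i j h => by have := fourth_pair h; linarith⟩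

theorem fourth_moment (p q r s : GolayPt) : ∑ x ∈ shell 32, x p * x q * (x r * x s) =
    322560 * ((if p = q then if r = s then 1 else 0 else 0) + (if p = r then if q = s then 1 else 0 else 0) +
      (if p = s then if q = r then 1 else 0 else 0)) := by
  have zero : ∀ a b c : GolayPt, a ≠ b → ∀ f : (GolayPt → ℤ) → ℤ, (∀ x, f x = x a * x b * (x c * x c)) →
      ∑ x ∈ shell 32, f x = 0 := fun a b c h f hf => by
    rw [Finset.sum_congr rfl fun x _ => hf x]; exact fourth_odd h c
  have two : ∀ a b : GolayPt, a ≠ b → ∀ f : (GolayPt → ℤ) → ℤ, (∀ x, f x = x a * x a * (x b * x b)) →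
      ∑ x ∈ shell 32, f x = 322560 := fun a b h f hf => by
    rw [Finset.sum_congr rfl fun x _ => hf x]; exact fourth_values.2 a b h
  by_cases hpq : p = q
  · subst hpq
    by_cases hrs : r = s
    · subst hrs
      by_cases hpr : p = r
      · subst hpr
        rw [Finset.sum_congr rfl fun (x : GolayPt → ℤ) _ => show x p * x p * (x p * x p) = x p ^ 4 by ring,
          sum_coord (fun v => v ^ 4) p, fourth_values.1]
        simp
      · rw [two p r hpr _ fun x => rfl]; simp [hpr]
    · rw [zero r s p hrs _ fun x => by ring]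
      by_cases hpr : p = r <;> by_cases hps : p = s <;> simp_all
  · by_cases hrs : r = s
    · subst hrs
      rw [zero p q r hpq _ fun x => rfl]
      by_cases hpr : p = r <;> by_cases hqr : q = r <;> simp_all
    · by_cases hpr : p = r
      · subst hpr
        by_cases hqs : q = s
        · subst hqs; rw [two p q hpq _ fun x => by ring]; simp [hpq]
        · rw [zero q s p hqs _ fun x => by ring]; simp_all
      · by_cases hps : p = s
        · subst hps
          by_cases hqr : q = r
          · subst hqr; rw [two p q hpq _ fun x => by ring]; simp [hpq]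
          · rw [zero q r p hqr _ fun x => by ring]; simp_all
        · by_cases hqr : q = r
          · subst hqr; rw [zero p s q hps _ fun x => by ring]; simp_all
          · by_cases hqs : q = s
            · subst hqs; rw [zero p r q hpr _ fun x => by ring]; simp_all
            · rw [fourth_distinct hpq hpr hps hqr hqs hrs]; simp_all

/-- The sum of the squares of a quadratic form over the norm-32 vectors. -/
theorem quad_sq_sum (M : GolayPt → GolayPt → ℤ) :
    ∑ x ∈ shell 32, (∑ p, ∑ q, M p q * (x p * x q)) ^ 2 =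
      322560 * ((∑ p, M p p) ^ 2 + ∑ p, ∑ q, M p q * M p q + ∑ p, ∑ q, M p q * M q p) := by
  have h : ∀ x : GolayPt → ℤ, (∑ p, ∑ q, M p q * (x p * x q)) ^ 2 =
      ∑ p, ∑ q, ∑ r, ∑ s, M p q * M r s * (x p * x q * (x r * x s)) := fun x => by
    rw [sq, Finset.sum_mul]
    refine Finset.sum_congr rfl fun p _ => ?_
    rw [Finset.sum_mul]
    refine Finset.sum_congr rfl fun q _ => ?_
    rw [Finset.mul_sum]
    refine Finset.sum_congr rfl fun r _ => ?_
    rw [Finset.mul_sum]
    exact Finset.sum_congr rfl fun s _ => by ring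
  rw [Finset.sum_congr rfl fun x _ => h x, Finset.sum_comm, sq, Finset.sum_mul, mul_add, mul_add, Finset.mul_sum,
    Finset.mul_sum, Finset.mul_sum, ← Finset.sum_add_distrib, ← Finset.sum_add_distrib]
  refine Finset.sum_congr rfl fun p _ => ?_
  rw [Finset.sum_comm, Finset.sum_congr rfl fun q _ => Finset.sum_comm]
  rw [Finset.sum_congr rfl fun q _ => Finset.sum_congr rfl fun r _ => Finset.sum_comm]
  simp only [← Finset.mul_sum, fourth_moment]
  simp [mul_add, Finset.sum_add_distrib, Finset.mul_sum, mul_ite, Finset.sum_ite_eq, mul_comm, mul_left_comm]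

end Cfsg.Lib.CoJ2
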