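import Cfsg.Agent.Lib.CoJ2.Checks
import Cfsg.Agent.Lib.CoJ2.GroupChecks
import Cfsg.Agent.Lib.CoJ2.Moments
import Cfsg.Agent.Lib.Concrete.LeechSimpleGroups

/-! The centraliser of the element of order five has order at most 6048000. -/

set_option autoImplicit false
set_option maxRecDepth 100000

namespace Cfsg.Lib.CoJ2

open Cfsg Cfsg.Lib.Concrete
open Cfsg.Lib.Co1Out (coords coords_injective coords_getD dotList eList coords_e8 forceZ_eq)
open scoped Pointwise

attribute [local irreducible] matL nearL decV vecF candOf stageOf el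

theorem elA_five : elA ^ 5 = 1 := by
  have h := ord_ok
  simp only [ordB, Bool.and_eq_true] at h
  have e := prodL_eq_of_eqW h.1
  simp only [prodL, mul_one] at e
  rw [← e, elA, pow_succ, pow_succ, pow_succ, pow_succ, pow_one, mul_assoc, mul_assoc, mul_assoc]

theorem coords_congr {v w : leechLattice} (h : coords (v : GolayPt → ℤ) = coords (w : GolayPt → ℤ)) : v = w :=
  Subtype.ext (coords_injective h)

theorem elA_ne : elA ≠ 1 := fun e => by
  have h := ord_ok
  simp only [ordB, Bool.and_eq_true, Bool.not_eq_true'] at h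
  refine Bool.false_ne_true (h.2.symm.trans ?_)
  simp only [eqW, evalL_eq, List.all_eq_true, beq_iff_eq]
  intro i _
  rw [← coords_e8, ← coords_prodL, ← coords_prodL]
  simp [prodL, show el 0 = 1 from e]

theorem coords_elA (v : leechLattice) :
    coords ((elA • v : leechLattice) : GolayPt → ℤ) = act 0 (coords (v : GolayPt → ℤ)) := coords_el 0 v

/-- The lattice map of a group element. -/
theorem co0_smul_add (g : Co0) (v w : leechLattice) : g • (v + w) = g • v + g • w := map_add (co0Hom g) v w

theorem cyc_sum (v : leechLattice) :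
    v + elA • v + elA • elA • v + elA • elA • elA • v + elA • elA • elA • elA • v = 0 := by
  let F : leechLattice →+ leechLattice :=
    AddMonoidHom.id leechLattice + co0Hom elA + (co0Hom elA).comp (co0Hom elA) +
      (co0Hom elA).comp ((co0Hom elA).comp (co0Hom elA)) +
      (co0Hom elA).comp ((co0Hom elA).comp ((co0Hom elA).comp (co0Hom elA)))
  have hF : ∀ w : leechLattice,
      F w = w + elA • w + elA • elA • w + elA • elA • elA • w + elA • elA • elA • elA • w := fun w => rfl
  have he : ∀ p, F (e8 p) = 0 := fun p => by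
    have h := cyc_ok
    simp only [cycB, evalL_eq, List.all_eq_true, beq_iff_eq, actL] at h
    refine Subtype.ext (funext fun q => ?_)
    have hq := h (gidx p) (List.mem_finRange _) (gidx q).val (List.mem_range.2 (gidx q).isLt)
    rw [← coords_e8, gpt_gidx, ← coords_elA, ← coords_elA, ← coords_elA, ← coords_elA, coords_getD, coords_getD,
      coords_getD, coords_getD, coords_getD, gpt_gidx] at hq
    rw [hF, AddSubgroup.coe_zero, Pi.zero_apply]
    simpa only [AddSubgroup.coe_add, Pi.add_apply] using hq
  have h8 : (8 : ℤ) • F v = 0 := by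
    rw [← map_zsmul, sum_smul_e8, map_sum, Finset.sum_eq_zero fun p _ => by rw [map_zsmul, he, zsmul_zero]]
  rw [← hF]
  refine Subtype.ext (funext fun q => ?_)
  have := congrFun (congrArg Subtype.val h8) q
  rw [AddSubgroup.coe_zsmul, Pi.smul_apply, smul_eq_mul, AddSubgroup.coe_zero, Pi.zero_apply] at this
  rw [AddSubgroup.coe_zero, Pi.zero_apply]
  omega

theorem dot_sum_eq {v : leechLattice} (hv : sqNorm (v : GolayPt → ℤ) = 32) :
    dotInt (v : GolayPt → ℤ) (elA • v : leechLattice) + dotInt (v : GolayPt → ℤ) (elA • elA • v : leechLattice) = -16 := by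
  have h0 : dotInt (v : GolayPt → ℤ) ((0 : leechLattice) : GolayPt → ℤ) = 0 := by simp [dotInt]
  rw [← cyc_sum v] at h0
  simp only [AddSubgroup.coe_add, dotInt_add_right] at h0
  have i5 : elA • elA • elA • elA • elA • v = v := by
    simp only [← mul_smul]
    rw [show elA * (elA * (elA * (elA * elA))) = elA ^ 5 by simp [pow_succ, mul_assoc], elA_five, one_smul]
  have e4 : dotInt (v : GolayPt → ℤ) (elA • elA • elA • elA • v : leechLattice) =
      dotInt (v : GolayPt → ℤ) (elA • v : leechLattice) := by
    rw [← co0_dot elA v (elA • elA • elA • elA • v), i5, dotInt_comm]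
  have e3 : dotInt (v : GolayPt → ℤ) (elA • elA • elA • v : leechLattice) =
      dotInt (v : GolayPt → ℤ) (elA • elA • v : leechLattice) := by
    rw [← co0_dot elA v (elA • elA • elA • v), ← co0_dot elA (elA • v) (elA • elA • elA • elA • v), i5, dotInt_comm]
  rw [e4, e3, dotInt_self, hv] at h0
  omega

theorem dot_three_values {v : leechLattice} (hv : sqNorm (v : GolayPt → ℤ) = 32) :
    dotInt (v : GolayPt → ℤ) (elA • v : leechLattice) ∈ ({-16, -8, 0} : Finset ℤ) := by
  have hs : ∀ g : Co0, ((g • v : leechLattice) : GolayPt → ℤ) ∈ shell 32 := fun g =>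
    mem_shell.2 ⟨(g • v).2, (co0_sqNorm g v).trans hv⟩
  have hu : (v : GolayPt → ℤ) ∈ shell 32 := mem_shell.2 ⟨v.2, hv⟩
  have hsum := dot_sum_eq hv
  rw [← mul_smul elA elA v] at hsum
  have hb : ∀ g : Co0, g ^ 5 = 1 → dotInt (v : GolayPt → ℤ) (g • v : leechLattice) ≠ -32 := by
    intro g hg e
    rcases dot_bound hu (hs g) with ⟨h, -⟩ | ⟨-, h⟩ | h
    · omega
    · have hneg : g • v = -v := Subtype.ext (by rw [AddSubgroup.coe_neg, h, neg_neg])
      have h5 : g • g • g • g • g • v = -v := by
        have hn : ∀ w : leechLattice, g • (-w) = -(g • w) := fun w => map_neg (co0Hom g) w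
        simp only [hneg, hn, neg_neg]
      rw [← mul_smul, ← mul_smul, ← mul_smul, ← mul_smul,
        show g * g * g * g * g = g ^ 5 by simp [pow_succ, mul_assoc], hg, one_smul] at h5
      have h6 : (v : GolayPt → ℤ) = 0 := funext fun p => by
        have := congrFun (congrArg Subtype.val h5) p
        rw [AddSubgroup.coe_neg, Pi.neg_apply] at this
        show _ = (0 : ℤ)
        omega
      rw [h6] at hv
      simp [sqNorm] at hv
    · rw [e] at h; norm_num at h
  have h1 := hb elA elA_five
  have h2 := hb (elA * elA) (by rw [← sq, ← pow_mul, pow_mul', elA_five, one_pow])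
  obtain ⟨d, hd⟩ := eight_dvd_dot v.2 (elA • v : leechLattice).2
  have hr : ∀ g : Co0, dotInt (v : GolayPt → ℤ) (g • v : leechLattice) = 32 ∨
      dotInt (v : GolayPt → ℤ) (g • v : leechLattice) = -32 ∨
      (-16 ≤ dotInt (v : GolayPt → ℤ) (g • v : leechLattice) ∧ dotInt (v : GolayPt → ℤ) (g • v : leechLattice) ≤ 16) := by
    intro g
    rcases dot_bound hu (hs g) with ⟨h, -⟩ | ⟨h, -⟩ | h
    · exact Or.inl h
    · exact Or.inr (Or.inl h)
    · exact Or.inr (Or.inr (abs_le.1 (by linarith)))
  have r1 := hr elA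
  have r2 := hr (elA * elA)
  simp only [Finset.mem_insert, Finset.mem_singleton]
  omega

/-- Eight times the inner product with the image, as a form. -/
def formA (p q : GolayPt) : ℤ := entL 0 (gidx p) (gidx q)

theorem form_eq (v : leechLattice) : 8 * dotInt (v : GolayPt → ℤ) (elA • v : leechLattice) =
    ∑ p, ∑ q, formA p q * ((v : GolayPt → ℤ) p * (v : GolayPt → ℤ) q) := by
  have h : ∀ p, 8 * ((elA • v : leechLattice) : GolayPt → ℤ) p = ∑ q, formA p q * (v : GolayPt → ℤ) q := fun p => by
    have hok := mats_ok 0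
    simp only [matOk, Bool.and_eq_true] at hok
    rw [elA, el, matCo0_apply, ← gpt_gidx p, matFun_scale hok.1.2 v.2, matDot_eq, sum_gpt]
    exact Finset.sum_congr rfl fun j _ => by simp [formA, matEntry_matL, gidx_gpt]
  simp only [dotInt, Finset.mul_sum]
  refine Finset.sum_congr rfl fun p _ => ?_
  rw [mul_left_comm, h, Finset.mul_sum]
  exact Finset.sum_congr rfl fun q _ => by ring

theorem form_traces : ∑ p, formA p p = -48 ∧ ∑ p, ∑ q, formA p q * formA p q = 1536 ∧
    ∑ p, ∑ q, formA p q * formA q p = -384 := by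
  decide +kernel

/-- The orthogonal vectors to their images. -/
def Xset : Set leechLattice :=
  {v | sqNorm (v : GolayPt → ℤ) = 32 ∧ dotInt (v : GolayPt → ℤ) (elA • v : leechLattice) = 0}

theorem ncard_Xset : Xset.ncard = 37800 := by
  classical
  set d : (GolayPt → ℤ) → ℤ := fun x => ∑ p, ∑ q, formA p q * (x p * x q) with hd
  have hval : ∀ x ∈ shell 32, d x ∈ ({-128, -64, 0} : Finset ℤ) := fun x hx => by
    obtain ⟨h1, h2⟩ := mem_shell.1 hx
    have h := dot_three_values (v := ⟨x, h1⟩) h2
    have e := form_eq ⟨x, h1⟩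
    simp only [Finset.mem_insert, Finset.mem_singleton] at h ⊢
    simp only at e
    rw [hd]
    simp only
    rw [← e]
    omega
  have hX : Xset.ncard = ((shell 32).filter fun x => d x = 0).card := by
    rw [← Set.ncard_coe_finset, ← Set.ncard_image_of_injective Xset Subtype.val_injective]
    refine congrArg Set.ncard (Set.ext fun x => ?_)
    simp only [Set.mem_image, Finset.coe_filter, Set.mem_setOf_eq]
    constructor
    · rintro ⟨v, ⟨h1, h2⟩, rfl⟩
      exact ⟨mem_shell.2 ⟨v.2, h1⟩, by simp only [hd]; rw [← form_eq v, h2, mul_zero]⟩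
    · rintro ⟨hx, h0⟩
      obtain ⟨h1, h2⟩ := mem_shell.1 hx
      refine ⟨⟨x, h1⟩, ⟨h2, ?_⟩, rfl⟩
      have e := form_eq ⟨x, h1⟩
      simp only [hd] at h0
      simp only at e
      rw [h0] at e
      show dotInt x ((elA • (⟨x, h1⟩ : leechLattice) : leechLattice) : GolayPt → ℤ) = 0
      omega
  have t1 : ∑ x ∈ shell 32, d x = 262080 * (-48) := by
    simp only [hd]
    rw [Finset.sum_comm, ← form_traces.1, Finset.mul_sum]
    refine Finset.sum_congr rfl fun p _ => ?_
    rw [Finset.sum_comm]
    simp only [← Finset.mul_sum, second_moment, mul_ite, mul_zero, Finset.sum_ite_eq, Finset.mem_univ, if_true]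
    ring
  have t2 : ∑ x ∈ shell 32, d x ^ 2 = 322560 * 3456 := by
    simp only [hd]
    rw [quad_sq_sum, form_traces.1, form_traces.2.1, form_traces.2.2]
    norm_num
  have e0 := sum_values (shell 32) d _ hval fun _ => 1
  have e1 := sum_values (shell 32) d _ hval fun v => v
  have e2 := sum_values (shell 32) d _ hval fun v => v ^ 2
  rw [t1] at e1
  rw [t2] at e2
  simp only [Finset.sum_const, card_shell32, nsmul_eq_mul, mul_one] at e0
  repeat rw [Finset.sum_insert (by decide)] at e0 e1 e2
  simp only [Finset.sum_singleton] at e0 e1 e2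
  push_cast at e0
  norm_num at e0 e1 e2
  rw [hX]
  omega

/-- The first base vector. -/
def v0 : leechLattice := lv (baseC 0)

theorem base_good {k : ℕ} (hk : k < 6) : goodC (baseC k) = true := by
  have h := base_ok
  simp only [baseB, Bool.and_eq_true, List.all_eq_true, List.mem_range] at h
  exact h.1.1 k hk

theorem v0_mem : v0 ∈ Xset := by
  refine ⟨sqNorm_lv (base_good (by norm_num)), ?_⟩
  have h := base_ok
  simp only [baseB, Bool.and_eq_true, beq_iff_eq] at h
  rw [← dotList_coords, coords_elA, v0, coords_lv (base_good (by norm_num))]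
  exact h.1.2

theorem near_len : nearL.length = 4600 ∧ incB nearL = true := by
  have h := near_head
  simp only [Bool.and_eq_true, Nat.beq_eq] at h
  exact h

theorem mem_part {c : ℕ} (hc : c ∈ nearL) : ∃ n < 8, c ∈ (nearL.drop (575 * n)).take 575 := by
  obtain ⟨i, hi, rfl⟩ := List.getElem_of_mem hc
  have hl := near_len.1
  refine ⟨i / 575, by omega, List.mem_iff_getElem.2 ⟨i % 575, ?_, ?_⟩⟩
  · rw [List.length_take, List.length_drop]; omega
  · simp only [List.getElem_take, List.getElem_drop]
    congr 1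
    omega

theorem near_spec {c : ℕ} (hc : c ∈ nearL) :
    goodC c = true ∧ encV (decV c) = c ∧ dotList (decV (baseC 0)) (decV c) = 16 := by
  obtain ⟨n, hn, hm⟩ := mem_part hc
  have h : nearPartB n = true := by
    interval_cases n
    exacts [near_ok0, near_ok1, near_ok2, near_ok3, near_ok4, near_ok5, near_ok6, near_ok7]
  simp only [nearPartB, Bool.and_eq_true, List.all_eq_true, Nat.beq_eq, beq_iff_eq] at h
  exact ⟨(h c hm).1.1, (h c hm).1.2, (h c hm).2⟩

theorem incB_pairwise : ∀ {l : List ℕ}, incB l = true → l.Pairwise (· < ·)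
  | [], _ => List.Pairwise.nil
  | [a], _ => List.pairwise_singleton _ a
  | a :: b :: l, h => by
    simp only [incB, Bool.and_eq_true, Nat.blt, Nat.ble_eq] at h
    have ih := incB_pairwise h.2
    refine List.pairwise_cons.2 ⟨fun x hx => ?_, ih⟩
    rcases List.mem_cons.1 hx with rfl | hx
    · exact h.1
    · exact lt_trans h.1 ((List.pairwise_cons.1 ih).1 x hx)

theorem near_complete {x : GolayPt → ℤ} (hx : x ∈ shell 32) (hd : dotInt (v0 : GolayPt → ℤ) x = 16) :
    ∃ c ∈ nearL, coords x = decV c := by
  classical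
  have hnd : nearL.Nodup := (incB_pairwise near_len.2).imp fun {a b} hab => Nat.ne_of_lt hab
  set T : Finset (GolayPt → ℤ) := nearL.toFinset.image vecF with hT
  have hcard : T.card = 4600 := by
    rw [hT, Finset.card_image_of_injOn, List.toFinset_card_of_nodup hnd, near_len.1]
    intro a ha b hb e
    rw [List.coe_toFinset] at ha hb
    rw [← (near_spec ha).2.1, ← (near_spec hb).2.1, ← coords_vecF, ← coords_vecF, e]
  have hsub : T ⊆ (shell 32).filter fun y => dotInt (v0 : GolayPt → ℤ) y = 16 := by
    intro y hy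
    obtain ⟨c, hc, rfl⟩ := Finset.mem_image.1 hy
    rw [List.mem_toFinset] at hc
    obtain ⟨hg, -, hdot⟩ := near_spec hc
    refine Finset.mem_filter.2 ⟨mem_shell.2 ?_, ?_⟩
    · rw [← lv_val hg]; exact ⟨(lv c).2, sqNorm_lv hg⟩
    · rw [← dotList_coords, v0, coords_lv (base_good (by norm_num)), coords_vecF]; exact hdot
  have hu : (v0 : GolayPt → ℤ) ∈ shell 32 := mem_shell.2 ⟨v0.2, v0_mem.1⟩
  have hcount : ((shell 32).filter fun y => dotInt (v0 : GolayPt → ℤ) y = 16).card = 4600 :=
    (dotCount_moves (shell_moves32 _ hu) 16).trans census32.2.1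
  have e := Finset.eq_of_subset_of_card_le hsub (by rw [hcard, hcount])
  have hxT : x ∈ T := e.symm ▸ Finset.mem_filter.2 ⟨hx, hd⟩
  obtain ⟨c, hc, rfl⟩ := Finset.mem_image.1 hxT
  exact ⟨c, List.mem_toFinset.1 hc, coords_vecF c⟩

end Cfsg.Lib.CoJ2
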