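import Cfsg.Agent.Lib.CoJ2.Elements
import Cfsg.Agent.Lib.CoJ2.Stages

/-! Kernel checks for the centraliser of the element of order five. -/

set_option autoImplicit false
set_option maxRecDepth 100000
set_option Elab.async false

namespace Cfsg.Lib.CoJ2

open Cfsg
open Cfsg.Lib.Co1Out (dotList forceZ eList)

/-- The list of vectors with inner product 16 with the first base vector. -/
def nearL : List ℕ := nearTab.flatten

/-- A base code. -/
def baseC (k : ℕ) : ℕ := baseCodes.getD k 0

/-- Strictly increasing, as a test. -/
def incB : List ℕ → Bool
  | a :: b :: l => Nat.blt a b && incB (b :: l)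
  | _ => true

/-- The base is good and lies in the near list. -/
def baseB : Bool :=
  (List.range 6).all (fun k => goodC (baseC k)) &&
    dotList (decV (baseC 0)) (act 0 (decV (baseC 0))) == 0 &&
      (List.range 5).all fun k => dotList (decV (baseC 0)) (decV (baseC (k + 1))) == 16

/-- The first four images under the element of order five. -/
def orb4 (l : List ℤ) : List (List ℤ) := [l, act 0 l, act 0 (act 0 l), act 0 (act 0 (act 0 l))]

/-- Hand over a list of lists once evaluated. -/
def forceZZ {α : Type} : List (List ℤ) → (List (List ℤ) → α) → α
  | [], k => k []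
  | x :: l, k => forceZ x fun y => forceZZ l fun m => k (y :: m)

theorem forceZZ_eq {α : Type} : ∀ (l : List (List ℤ)) (k : List (List ℤ) → α), forceZZ l k = k l
  | [], _ => rfl
  | x :: l, k => by rw [forceZZ, Cfsg.Lib.Co1Out.forceZ_eq, forceZZ_eq l]

/-- The inner products agree. -/
def sameDots : List (List ℤ) → List (List ℤ) → List ℤ → List ℤ → Bool
  | f :: fs, b :: bs, x, u => dotList f x == dotList b u && sameDots fs bs x u
  | [], [], _, _ => true
  | _, _, _, _ => false

/-- The candidates at a level. -/
def candOf : ℕ → List (List ℕ)
  | 1 => cand1 | 2 => cand2 | 3 => cand3 | 4 => cand4 | 5 => cand5 | _ => []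

/-- The stages. -/
def stageOf : ℕ → List (List ℕ)
  | 0 => [[]] | 1 => stage1.flatten | 2 => stage2.flatten | 3 => stage3.flatten | 4 => stage4.flatten
  | 5 => stage5.flatten | _ => []

/-- The sieve by the orbit of the first base vector, on a stretch of the near list. -/
def sieveB (n : ℕ) : Bool :=
  forceZZ (orb4 (decV (baseC 0))) fun fs =>
    forceZZ ((List.range 5).map fun k => fs.map fun f => dotList f (decV (baseC (k + 1)))) fun tg =>
      ((nearL.drop (575 * n)).take 575).all fun c =>
        forceZ (decV c) fun x => forceZ (fs.map fun f => dotList f x) fun ds =>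
          (List.range 5).all fun k =>
            !(ds == tg.getD k []) || (candOf (k + 1)).any fun l => l.any fun d => Nat.beq d c

/-- The earlier base vectors' orbits. -/
def prevOrb (k : ℕ) : List (List ℤ) := ((List.range k).map fun j => orb4 (decV (baseC (j + 1)))).flatten

/-- One step of the backtrack. -/
def stepB (k : ℕ) : Bool :=
  forceZZ (prevOrb k) fun bs => forceZ (decV (baseC (k + 1))) fun u => forceZ (act 0 u) fun au =>
    (stageOf k).all fun p => forceZZ ((p.map fun c => orb4 (decV c)).flatten) fun fs =>
      (candOf (k + 1)).all fun l => l.all fun c => forceZ (decV c) fun x =>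
        !(sameDots fs bs x u && dotList x (act 0 x) == dotList u au) ||
          (stageOf (k + 1)).any fun q => q == p ++ [c]

/-- A stretch of the near list is right. -/
def nearPartB (n : ℕ) : Bool :=
  ((nearL.drop (575 * n)).take 575).all fun c =>
    goodC c && Nat.beq (encV (decV c)) c && dotList (decV (baseC 0)) (decV c) == 16

theorem near_head : (Nat.beq nearL.length 4600 && incB nearL) = true := by decide +kernel
theorem near_ok0 : nearPartB 0 = true := by decide +kernel
theorem near_ok1 : nearPartB 1 = true := by decide +kernel
theorem near_ok2 : nearPartB 2 = true := by decide +kernel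
theorem near_ok3 : nearPartB 3 = true := by decide +kernel
theorem near_ok4 : nearPartB 4 = true := by decide +kernel
theorem near_ok5 : nearPartB 5 = true := by decide +kernel
theorem near_ok6 : nearPartB 6 = true := by decide +kernel
theorem near_ok7 : nearPartB 7 = true := by decide +kernel
theorem base_ok : baseB = true := by decide +kernel
theorem stage_len : (stageOf 5).length = 160 := by decide +kernel
theorem sieve_ok0 : sieveB 0 = true := by decide +kernel
theorem sieve_ok1 : sieveB 1 = true := by decide +kernel
theorem sieve_ok2 : sieveB 2 = true := by decide +kernel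
theorem sieve_ok3 : sieveB 3 = true := by decide +kernel
theorem sieve_ok4 : sieveB 4 = true := by decide +kernel
theorem sieve_ok5 : sieveB 5 = true := by decide +kernel
theorem sieve_ok6 : sieveB 6 = true := by decide +kernel
theorem sieve_ok7 : sieveB 7 = true := by decide +kernel
theorem step_ok0 : stepB 0 = true := by decide +kernel
theorem step_ok1 : stepB 1 = true := by decide +kernel
theorem step_ok2 : stepB 2 = true := by decide +kernel

end Cfsg.Lib.CoJ2
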