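import Cfsg.Agent.Lib.CoJ2.Checks

/-! Kernel check of one step of the backtrack, level 3. -/

set_option autoImplicit false
set_option maxRecDepth 100000

namespace Cfsg.Lib.CoJ2

theorem step_ok3 : stepB 3 = true := by decide +kernel

end Cfsg.Lib.CoJ2
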