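import Cfsg.Agent.Lib.Co1Out.Elements
import Cfsg.Agent.Lib.CoJ2.Data

/-! The eight matrices preserve the lattice. -/

set_option autoImplicit false
set_option maxRecDepth 100000

namespace Cfsg.Lib.CoJ2

open Cfsg Cfsg.Lib.Concrete

/-- The packed row. -/
def rowCode (m i : ℕ) : ℕ := (matRows.getD m []).getD i 0

/-- An entry of a matrix. -/
def entL (m : ℕ) (i j : Fin 24) : ℤ := (((rowCode m i.val >>> (5 * j.val)) % 32 : ℕ) : ℤ) - 16

/-- A matrix. -/
def matL (m : ℕ) : List (List ℤ) := (List.finRange 24).map fun i => (List.finRange 24).map fun j => entL m i j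

theorem mat_ok0 : matOk (matL 0) = true := by decide +kernel
theorem mat_ok1 : matOk (matL 1) = true := by decide +kernel
theorem mat_ok2 : matOk (matL 2) = true := by decide +kernel
theorem mat_ok3 : matOk (matL 3) = true := by decide +kernel
theorem mat_ok4 : matOk (matL 4) = true := by decide +kernel
theorem mat_ok5 : matOk (matL 5) = true := by decide +kernel
theorem mat_ok6 : matOk (matL 6) = true := by decide +kernel
theorem mat_ok7 : matOk (matL 7) = true := by decide +kernel

theorem mats_ok : ∀ m : Fin 8, matOk (matL m.val) = true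
  | 0 => mat_ok0 | 1 => mat_ok1 | 2 => mat_ok2 | 3 => mat_ok3
  | 4 => mat_ok4 | 5 => mat_ok5 | 6 => mat_ok6 | 7 => mat_ok7

end Cfsg.Lib.CoJ2
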