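import Cfsg.Agent.Lib.CoJ2.Model
import Cfsg.Agent.Lib.J2Type.Instance

/-! A section of the lattice group of Hall–Janko type. -/

set_option autoImplicit false

namespace Cfsg.Lib.CoJ2

open Cfsg Subgroup Cfsg.Lib.J2Type

/-- The centraliser hypothesis in the form of the statement. -/
theorem type_data {G : Type} [Group G] [Finite G] {z : G} {Q : Subgroup G} (h : Setup z Q)
    (hQ : Cfsg.IsExtraspecial 2 ↥Q) :
    orderOf z = 2 ∧ ∃ (Q' : Subgroup (Subgroup.centralizer ({z} : Set G))) (_ : Q'.Normal),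
      Cfsg.generalizedFittingSubgroup (Subgroup.centralizer ({z} : Set G)) = Q' ∧ Cfsg.IsExtraspecial 2 Q' ∧
      Nat.card Q' = 2 ^ 5 ∧
      Nonempty ((Subgroup.centralizer ({z} : Set G)) ⧸ Q' ≃* Cfsg.Omega (ZMod 2) (Cfsg.quadFormMinus 1 (ZMod 2) 1 1)) ∧
      ∃ g : G, (∃ hq : g * z * g⁻¹ ∈ Subgroup.centralizer ({z} : Set G),
        (⟨g * z * g⁻¹, hq⟩ : Subgroup.centralizer ({z} : Set G)) ∈ Q') ∧ g * z * g⁻¹ ≠ z := by
  classical
  haveI : Fact (Nat.Prime 2) := ⟨Nat.prime_two⟩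
  have hz : orderOf z = 2 := orderOf_eq_prime (by rw [sq]; exact h.ctx.sq_z) h.ctx.ne_one
  obtain ⟨φ, hφ, hker⟩ := h.proj
  have hQC : Q ≤ centralizer ({z} : Set G) := fun a ha => mem_centralizer_singleton_iff.2 (h.ctx.central a ha).symm
  have hk : φ.ker = Q.subgroupOf (centralizer ({z} : Set G)) :=
    Subgroup.ext fun x => MonoidHom.mem_ker.trans ((hker x).trans mem_subgroupOf.symm)
  have hext : Cfsg.IsExtraspecial 2 ↥φ.ker := by
    rw [hk]
    exact Cfsg.Lib.Extra.isExtraspecial_congr (subgroupOfEquivOfLe hQC).symm hQ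
  have hp : Cfsg.pCore 2 ↥(centralizer ({z} : Set G)) = φ.ker := by
    refine le_antisymm ?_ (Cfsg.Lib.Core.le_pCore hext.1.1)
    haveI := alternatingGroup.isSimpleGroup_five
    have hN : ((Cfsg.pCore 2 ↥(centralizer ({z} : Set G))).map φ).Normal :=
      (inferInstance : (Cfsg.pCore 2 ↥(centralizer ({z} : Set G))).Normal).map φ hφ
    rcases hN.eq_bot_or_eq_top with e | e
    · rwa [Subgroup.map_eq_bot_iff] at e
    · exfalso
      have hpg := (Cfsg.Lib.Core.pCore_isPGroup 2 ↥(centralizer ({z} : Set G))).map φ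
      rw [e] at hpg
      obtain ⟨i, hi⟩ := hpg.exists_card_eq
      rw [card_top, a5_card] at hi
      exact absurd ((Nat.prime_dvd_prime_iff_eq (by norm_num) Nat.prime_two).1
        (Nat.Prime.dvd_of_dvd_pow (by norm_num) (hi ▸ (by norm_num : (5 : ℕ) ∣ 60)))) (by norm_num)
  have hF : Cfsg.generalizedFittingSubgroup ↥(centralizer ({z} : Set G)) = φ.ker := by
    rw [← hp]
    refine Cfsg.Lib.Core.generalizedFitting_eq_pCore_iff.2 fun g hg => ?_
    rw [hp, hk, mem_subgroupOf]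
    rw [hp, hk] at hg
    rcases h.ctx.cent (g : G) fun a ha => congrArg Subtype.val
      (mem_centralizer_iff.1 hg ⟨a, hQC ha⟩ (mem_subgroupOf.2 ha)).symm with e | e
    · rw [e]; exact Q.one_mem
    · rw [e]; exact h.ctx.mem
  obtain ⟨g, hg, hne⟩ := h.nwc
  obtain ⟨eΩ⟩ := omega_equiv
  refine ⟨hz, φ.ker, inferInstance, hF, hext, ?_, ⟨(QuotientGroup.quotientKerEquivOfSurjective φ hφ).trans eΩ.symm⟩,
    g, ⟨hQC hg, ?_⟩, hne⟩
  · rw [hk, Nat.card_congr (subgroupOfEquivOfLe hQC).toEquiv, h.card]; norm_num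
  · rw [hk, mem_subgroupOf]; exact hg

open Cfsg.Lib.J2 Cfsg.Lib.Concrete in
/-- The section. -/
theorem section_j2 : ∃ A : Subgroup ↥Cfsg.Co0, Nat.card A = 5 ∧
    ∃ φ : ↥(Subgroup.centralizer (A : Set ↥Cfsg.Co0)) →* PGrp, Function.Surjective φ ∧
      φ.ker = (A ⊔ Subgroup.center ↥Cfsg.Co0).subgroupOf (Subgroup.centralizer (A : Set ↥Cfsg.Co0)) := by
  haveI : Fact (Nat.Prime 5) := ⟨by norm_num⟩
  refine ⟨Subgroup.zpowers elA, by rw [Nat.card_zpowers, orderOf_eq_prime elA_five elA_ne], ?_⟩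
  have e : Subgroup.centralizer ((Subgroup.zpowers elA : Subgroup Co0) : Set Co0) = CA := by
    rw [Subgroup.zpowers_eq_closure, Subgroup.centralizer_closure]
  rw [e]
  exact exists_phi

theorem pGrp_noncomm : ¬ IsMulCommutative Cfsg.Lib.J2.PGrp := by
  intro h
  obtain ⟨g, -, hne⟩ := setup_PGrp.nwc
  exact hne (by rw [h.is_comm.comm g (Cfsg.Lib.J2.gE 0), mul_inv_cancel_right])

end Cfsg.Lib.CoJ2
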