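import Cfsg.Agent.Lib.CoJ2.Stab
import Cfsg.Agent.Lib.J2.Simple

/-! The centraliser of the element of order five acts on 315 blocks as the Hall–Janko group. -/

set_option autoImplicit false
set_option maxRecDepth 100000

namespace Cfsg.Lib.CoJ2

open Cfsg Cfsg.Lib.Concrete Cfsg.Lib.J2
open Cfsg.Lib.Co1Out (coords coords_injective dotList eList coords_e8 negElt negElt_apply negElt_mem)
open scoped Pointwise

attribute [local irreducible] matL decV vecF zeroL el

theorem gens_top : Subgroup.closure (Set.range gE) = (⊤ : Subgroup PGrp) := by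
  refine eq_top_iff.mpr fun f _ => ?_
  obtain ⟨_, x, rfl⟩ := f
  have hx : x ∈ (Subgroup.closure (Set.range gE)).comap rep.rangeRestrict := by
    refine (Subgroup.closure_le _).mpr ?_ (closure_gens.symm ▸ Subgroup.mem_top x)
    rintro _ ⟨g, rfl⟩
    exact Subgroup.subset_closure ⟨g, rfl⟩
  exact hx

theorem neg_squared : negElt * negElt = 1 := Subtype.ext (Equiv.ext fun v => neg_neg v)

theorem neg_nontriv : negElt ≠ 1 := fun h => by
  have := congrArg (fun z : Co0 => ((z • top : leechLattice) : GolayPt → ℤ) none) h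
  simp [negElt_apply, top, e8] at this

theorem centre_cases {z : Co0} (hz : z ∈ Subgroup.center Co0) : z = 1 ∨ z = negElt := by
  obtain ⟨s, hs, hv⟩ := mem_center_apply hz 0
  rcases hs with rfl | rfl
  · exact Or.inl (Cfsg.Lib.Co1Out.co0_ext fun i => Subtype.ext (by
      rw [show ((z • e8 i : leechLattice) : GolayPt → ℤ) = _ from hv (e8 i), one_smul, one_smul]))
  · exact Or.inr (Cfsg.Lib.Co1Out.co0_ext fun i => Subtype.ext (by
      rw [show ((z • e8 i : leechLattice) : GolayPt → ℤ) = _ from hv (e8 i), neg_one_smul, negElt_apply,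
        AddSubgroup.coe_neg]))

/-- The further elements. -/
def EE : Subgroup Co0 := Subgroup.closure {el 5, el 6, el 7}

theorem eWord_mem : ∀ w : List ℕ, prodL (eWord w) ∈ EE
  | [] => one_mem _
  | a :: w => by
    show el _ * prodL (eWord w) ∈ EE
    refine EE.mul_mem (Subgroup.subset_closure ?_) (eWord_mem w)
    cases h : Nat.beq a 0 <;> cases h' : Nat.beq a 1 <;> simp [h, h']

theorem elA_mem_EE : elA ∈ EE := by
  have h := word_ok
  simp only [wordB, Bool.and_eq_true] at h
  have e := prodL_eq_of_eqW h.1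
  simp only [prodL, mul_one] at e
  rw [elA, e]
  exact eWord_mem _

theorem negElt_mem_EE : negElt ∈ EE := by
  have h := word_ok
  simp only [wordB, Bool.and_eq_true, evalL_eq, List.all_eq_true, beq_iff_eq] at h
  have e : prodL (eWord wordNeg) = negElt := Cfsg.Lib.Co1Out.co0_ext fun p => Subtype.ext (coords_injective (by
    rw [← gpt_gidx p, coords_prodL, negElt_apply, AddSubgroup.coe_neg, Cfsg.Lib.Co1Out.coords_neg, coords_e8]
    exact h.2 _ (List.mem_finRange _)))
  exact e ▸ eWord_mem _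

theorem EE_comm {g : Fin 8} (hg : g ∈ ([1, 2, 3, 4] : List (Fin 8))) :
    (∀ e ∈ EE, el g * e = e * el g) ∧ el g * elA = elA * el g := by
  have h := comm_ok
  simp only [commB, List.all_eq_true] at h
  have hc : ∀ e ∈ ([0, 5, 6, 7] : List (Fin 8)), el g * el e = el e * el g := fun e he => by
    have := prodL_eq_of_eqW (h g hg e he)
    simpa only [prodL, mul_one] using this
  refine ⟨fun e he => ?_, hc 0 (by simp)⟩
  induction he using Subgroup.closure_induction with
  | mem x hx =>
    rcases hx with rfl | rfl | rfl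
    exacts [hc 5 (by simp), hc 6 (by simp), hc 7 (by simp)]
  | one => rw [mul_one, one_mul]
  | mul x y _ _ hx hy => exact (show Commute (el g) x from hx).mul_right hy
  | inv x _ hx => exact (show Commute (el g) x from hx).inv_right

/-- The representative vector of a block. -/
def blockV (x : Fin 315) : leechLattice := lv (repC x.val)

theorem rep_good (x : Fin 315) : goodC (repC x.val) = true := by
  have h := rep_ok
  simp only [repB, Bool.and_eq_true] at h
  exact all_range h.2 x.2

/-- A block. -/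
def blockSet (x : Fin 315) : Set leechLattice := {v | ∃ e ∈ EE, e • blockV x = v}

theorem blockV_mem (x : Fin 315) : blockV x ∈ blockSet x := ⟨1, one_mem _, one_smul _ _⟩

/-- An element moves the blocks by a permutation. -/
def MovesB (g : Co0) (p : PGrp) : Prop :=
  g ∈ CA ∧ ∀ x, ∀ v ∈ blockSet x, g • v ∈ blockSet ((p : Equiv.Perm (Fin 315)) x)

theorem movesB_one : MovesB 1 1 := ⟨one_mem _, fun x v hv => by simpa using hv⟩

theorem movesB_mul {g h : Co0} {p q : PGrp} (hg : MovesB g p) (hh : MovesB h q) : MovesB (g * h) (p * q) := by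
  refine ⟨CA.mul_mem hg.1 hh.1, fun x v hv => ?_⟩
  rw [mul_smul, Subgroup.coe_mul, Equiv.Perm.mul_apply]
  exact hg.2 _ _ (hh.2 x v hv)

/-- The pairs. -/
def pairsB : Subgroup (Co0 × PGrp) :=
  haveI := finite_Co0
  let M : Submonoid (Co0 × PGrp) :=
    { carrier := {u | MovesB u.1 u.2}
      one_mem' := movesB_one
      mul_mem' := fun hu hv => movesB_mul hu hv }
  { M with
    inv_mem' := fun {u} hu => by
      have h1 : 0 < orderOf u := orderOf_pos u
      have e : u ^ (orderOf u - 1) = u⁻¹ := by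
        refine eq_inv_of_mul_eq_one_right ?_
        rw [← pow_succ', Nat.sub_add_cancel h1, pow_orderOf_eq_one]
      rw [← e]
      exact M.pow_mem hu _ }

theorem mem_pairsB {g : Co0} {p : PGrp} : (g, p) ∈ pairsB ↔ MovesB g p := Iff.rfl

theorem EE_pair {e : Co0} (he : e ∈ EE) (hc : e ∈ CA) : (e, (1 : PGrp)) ∈ pairsB := by
  refine mem_pairsB.2 ⟨hc, ?_⟩
  rintro x v ⟨e', he', rfl⟩
  exact ⟨e * e', EE.mul_mem he he', by simp [mul_smul]⟩

theorem gen_pair_of {k : Fin 4} {g : Fin 8} (hg : g ∈ ([1, 2, 3, 4] : List (Fin 8))) (hm : ∀ n < 5, moveB k.val g n = true) :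
    (el g, gE k) ∈ pairsB := by
  obtain ⟨hcomm, hca⟩ := EE_comm hg
  refine mem_pairsB.2 ⟨Subgroup.mem_centralizer_singleton_iff.2 hca, ?_⟩
  rintro x v ⟨e, he, rfl⟩
  have h := List.all_eq_true.1 (hm (x.val / 63) (by omega)) x.val
    (List.mem_range'_1.2 ⟨by omega, by omega⟩)
  simp only [evalL_eq, beq_iff_eq] at h
  rw [← gE_real k x, ← coords_lv (rep_good _), ← coords_lv (rep_good _)] at h
  have h' : el g • blockV x =
      prodL (eWord (moveWords.flatten.getD (315 * k.val + x.val) [])) •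
        blockV ((gE k : Equiv.Perm (Fin 315)) x) := by
    refine coords_congr ?_
    rw [coords_prodL, coords_el]
    simpa only [actL, blockV] using h
  refine ⟨e * prodL (eWord (moveWords.flatten.getD (315 * k.val + x.val) [])), EE.mul_mem he (eWord_mem _), ?_⟩
  rw [mul_smul, ← h', ← mul_smul, ← hcomm e he, mul_smul]

theorem moves0 : ∀ n < 5, moveB 0 1 n = true := by
  intro n hn
  interval_cases n
  exacts [move_ok00, move_ok01, move_ok02, move_ok03, move_ok04]

theorem moves1 : ∀ n < 5, moveB 1 2 n = true := by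
  intro n hn
  interval_cases n
  exacts [move_ok10, move_ok11, move_ok12, move_ok13, move_ok14]

theorem moves2 : ∀ n < 5, moveB 2 3 n = true := by
  intro n hn
  interval_cases n
  exacts [move_ok20, move_ok21, move_ok22, move_ok23, move_ok24]

theorem moves3 : ∀ n < 5, moveB 3 4 n = true := by
  intro n hn
  interval_cases n
  exacts [move_ok30, move_ok31, move_ok32, move_ok33, move_ok34]

theorem gen_pair (k : Fin 4) : ∃ g : Co0, (g, gE k) ∈ pairsB := by
  fin_cases k
  exacts [⟨_, gen_pair_of (g := 1) (by simp) (moves0)⟩, ⟨_, gen_pair_of (g := 2) (by simp) (moves1)⟩,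
    ⟨_, gen_pair_of (g := 3) (by simp) (moves2)⟩, ⟨_, gen_pair_of (g := 4) (by simp) (moves3)⟩]

theorem pairs_surjective : (pairsB.map (MonoidHom.snd Co0 PGrp)) = ⊤ := by
  rw [eq_top_iff, ← gens_top, Subgroup.closure_le]
  rintro _ ⟨k, rfl⟩
  obtain ⟨g, hg⟩ := gen_pair k
  exact ⟨_, hg, rfl⟩

theorem moveGen_lt : moveGen < 4 := by decide

theorem not_fix_all : ((1 : Co0), gE ⟨moveGen, moveGen_lt⟩) ∉ pairsB := by
  intro h
  obtain ⟨e, he, hev⟩ := (mem_pairsB.1 h).2 0 _ (blockV_mem 0)
  rw [one_smul] at hev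
  have hz := zero_ok
  simp only [zeroB, Bool.and_eq_true, List.all_eq_true, List.any_eq_true, Nat.beq_eq, Bool.not_eq_true',
    beq_eq_false_iff_ne, ne_eq, evalL_eq, beq_iff_eq] at hz
  obtain ⟨⟨⟨hgood, c0, hc0, hc0'⟩, hmiss⟩, hclosed⟩ := hz
  let T : Set leechLattice := {v | ∃ c ∈ zeroL, coords (v : GolayPt → ℤ) = decV c}
  have h0 : blockV 0 ∈ T := ⟨c0, hc0, by
    rw [blockV, coords_lv (rep_good 0)]
    exact congrArg decV hc0'.symm⟩
  haveI := finite_Co0
  have hT : ∀ u ∈ EE, ∀ v ∈ T, u • v ∈ T := by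
    intro u hu
    have hu' : u ∈ Submonoid.closure ({el 5, el 6, el 7} : Set Co0) := by
      rw [← Subgroup.closure_toSubmonoid_of_finite]
      exact hu
    induction hu' using Submonoid.closure_induction with
    | mem x hx =>
      rintro v ⟨c, hc, hv⟩
      have key : ∀ j ∈ ([5, 6, 7] : List (Fin 8)), el j • v ∈ T := fun j hj => by
        obtain ⟨d, hd, e⟩ := hclosed j hj c hc
        exact ⟨d, hd, by rw [coords_el, hv]; simpa only [actL] using e.symm⟩
      rcases hx with rfl | rfl | rfl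
      exacts [key 5 (by simp), key 6 (by simp), key 7 (by simp)]
    | one => intro v hv; rwa [one_smul]
    | mul x y hx' hy' hx hy =>
      intro v hv
      have m : ∀ {w : Co0}, w ∈ Submonoid.closure ({el 5, el 6, el 7} : Set Co0) → w ∈ EE := fun {w} hw => by
        rw [← Subgroup.closure_toSubmonoid_of_finite] at hw
        exact hw
      rw [mul_smul]
      exact hx (m hx') _ (hy (m hy') v hv)
  have hmem : blockV ((gE ⟨moveGen, moveGen_lt⟩ : Equiv.Perm (Fin 315)) 0) ∈ T := by
    have hm := hT _ (EE.inv_mem he) _ h0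
    rwa [← hev, inv_smul_smul] at hm
  obtain ⟨c, hc, hcv⟩ := hmem
  rw [blockV, coords_lv (rep_good _)] at hcv
  refine hmiss c hc ?_
  rw [← hcv, gE_real]
  rfl

theorem pairs_unique {p : PGrp} (h : ((1 : Co0), p) ∈ pairsB) : p = 1 := by
  haveI := isSimple_PGrp
  let N : Subgroup PGrp := pairsB.comap (MonoidHom.inr Co0 PGrp)
  have hN : N.Normal := ⟨fun q hq u => by
    obtain ⟨w, hw, hwu⟩ := (pairs_surjective.symm ▸ Subgroup.mem_top u : u ∈ pairsB.map (MonoidHom.snd Co0 PGrp))
    have := pairsB.mul_mem (pairsB.mul_mem hw hq) (pairsB.inv_mem hw)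
    show ((1 : Co0), u * q * u⁻¹) ∈ pairsB
    convert this using 1
    subst hwu
    ext1 <;> simp⟩
  rcases hN.eq_bot_or_eq_top with e | e
  · have : p ∈ N := h
    rwa [e, Subgroup.mem_bot] at this
  · exact absurd (show gE ⟨moveGen, moveGen_lt⟩ ∈ N from e ▸ Subgroup.mem_top _) not_fix_all

theorem elA_mem_CA : elA ∈ CA := Subgroup.mem_centralizer_singleton_iff.2 rfl

theorem negElt_mem_CA : negElt ∈ CA :=
  Subgroup.mem_centralizer_singleton_iff.2 (Subgroup.mem_center_iff.1 negElt_mem elA).symm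

/-- The element of order five and the negation. -/
def baseKer : Subgroup Co0 := Subgroup.zpowers elA ⊔ Subgroup.center Co0

theorem baseKer_le : baseKer ≤ CA :=
  sup_le (Subgroup.zpowers_le.2 elA_mem_CA) fun _ hz =>
    Subgroup.mem_centralizer_singleton_iff.2 (Subgroup.mem_center_iff.1 hz elA).symm

theorem ten_dvd : 10 ∣ Nat.card ↥baseKer := by
  haveI := finite_Co0
  haveI : Fact (Nat.Prime 5) := ⟨by norm_num⟩
  haveI : Fact (Nat.Prime 2) := ⟨Nat.prime_two⟩
  have h5 : 5 ∣ Nat.card ↥baseKer := by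
    rw [← orderOf_eq_prime elA_five elA_ne]
    exact Subgroup.orderOf_dvd_natCard _ (Subgroup.mem_sup_left (Subgroup.mem_zpowers _))
  have h2 : 2 ∣ Nat.card ↥baseKer := by
    rw [← orderOf_eq_prime (p := 2) (by rw [sq]; exact neg_squared) neg_nontriv]
    exact Subgroup.orderOf_dvd_natCard _ (Subgroup.mem_sup_right negElt_mem)
  exact Nat.Coprime.mul_dvd_of_dvd_of_dvd (by norm_num : Nat.Coprime 2 5) h2 h5

/-- The map to the Hall–Janko group. -/
theorem exists_phi : ∃ φ : ↥CA →* PGrp, Function.Surjective φ ∧ φ.ker = baseKer.subgroupOf CA := by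
  haveI := finite_Co0
  let f : ↥pairsB →* ↥CA := ((MonoidHom.fst Co0 PGrp).comp pairsB.subtype).codRestrict CA fun u => u.2.1
  let s : ↥pairsB →* PGrp := (MonoidHom.snd Co0 PGrp).comp pairsB.subtype
  have hf : Function.Injective f := by
    rw [injective_iff_map_eq_one]
    rintro ⟨⟨g, p⟩, hu⟩ h
    obtain rfl : g = 1 := congrArg Subtype.val h
    obtain rfl := pairs_unique hu
    rfl
  have hs : Function.Surjective s := fun p => by
    obtain ⟨w, hw, e⟩ := (pairs_surjective.symm ▸ Subgroup.mem_top p : p ∈ pairsB.map (MonoidHom.snd Co0 PGrp))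
    exact ⟨⟨w, hw⟩, e⟩
  have hb : ∀ b ∈ baseKer, (b, (1 : PGrp)) ∈ pairsB := by
    intro b hb
    refine (sup_le ?_ ?_ : baseKer ≤ pairsB.comap (MonoidHom.inl Co0 PGrp)) hb
    · exact Subgroup.zpowers_le.2 (EE_pair elA_mem_EE elA_mem_CA)
    · intro z hz
      rcases centre_cases hz with rfl | rfl
      · exact one_mem _
      · exact EE_pair negElt_mem_EE negElt_mem_CA
  have hk : Nat.card ↥baseKer ≤ Nat.card ↥s.ker :=
    Nat.card_le_card_of_injective (fun b => (⟨⟨(b.1, 1), hb b.1 b.2⟩, rfl⟩ : ↥s.ker)) fun a b e =>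
      Subtype.ext (congrArg (fun u : ↥s.ker => (u.1 : Co0 × PGrp).1) e)
  have h10 : 10 ≤ Nat.card ↥baseKer := Nat.le_of_dvd Nat.card_pos ten_dvd
  have hm : Nat.card ↥s.ker * 604800 = Nat.card ↥pairsB := by
    rw [← s.ker.card_mul_index, Subgroup.index_ker, MonoidHom.range_eq_top.2 hs, Subgroup.card_top, card_PGrp]
  have hle := Nat.card_le_card_of_injective f hf
  have hca := card_CA_le
  have hfs : Function.Surjective f :=
    ((Nat.bijective_iff_injective_and_card f).2 ⟨hf, by omega⟩).2
  let e : ↥pairsB ≃* ↥CA := MulEquiv.ofBijective f ⟨hf, hfs⟩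
  refine ⟨s.comp e.symm.toMonoidHom, hs.comp e.symm.surjective, (Subgroup.eq_of_le_of_card_ge ?_ ?_).symm⟩
  · intro b hb'
    rw [Subgroup.mem_subgroupOf] at hb'
    have hbe : e ⟨(b.1, 1), hb b.1 hb'⟩ = b := Subtype.ext rfl
    rw [MonoidHom.mem_ker, MonoidHom.comp_apply, ← hbe]
    show s (e.symm (e _)) = 1
    rw [e.symm_apply_apply]
    rfl
  · rw [Nat.card_congr (Subgroup.subgroupOfEquivOfLe baseKer_le).toEquiv]
    have hke : Nat.card ↥(s.comp e.symm.toMonoidHom).ker * 604800 = Nat.card ↥CA := by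
      rw [← (s.comp e.symm.toMonoidHom).ker.card_mul_index, Subgroup.index_ker,
        MonoidHom.range_eq_top.2 (hs.comp e.symm.surjective : Function.Surjective (s.comp e.symm.toMonoidHom)),
        Subgroup.card_top, card_PGrp]
    omega

end Cfsg.Lib.CoJ2
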