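import Cfsg.Agent.Lib.CoJ2.Bound
import Cfsg.Agent.Lib.CoJ2.ChecksStep3
import Cfsg.Agent.Lib.CoJ2.ChecksStep4

/-! The stabiliser of a vector in the centraliser and the resulting bound. -/

set_option autoImplicit false
set_option maxRecDepth 100000

namespace Cfsg.Lib.CoJ2

open Cfsg Cfsg.Lib.Concrete
open Cfsg.Lib.Co1Out (coords coords_injective coords_getD dotList eList coords_e8 forceZ forceZ_eq)
open scoped Pointwise

/-- The coefficient of the spanning. -/
def coefC (i : Fin 24) (j : ℕ) : ℤ := (spanCoef.getD i.val []).getD j 0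

/-- The spanning check. -/
def spanB : Bool :=
  forceZZ (((List.range 6).map fun k => orb4 (decV (baseC k))).flatten) fun fs =>
    (List.finRange 24).all fun i => (List.finRange 24).all fun r =>
      ((List.range 24).map fun j => coefC i j * (fs.getD j []).getD r.val 0).sum == (eList i).getD r.val 0

theorem span_ok : spanB = true := by decide +kernel

/-- The spanning vectors. -/
def spanV (j : ℕ) : leechLattice := elA ^ (j % 4) • lv (baseC (j / 4))

theorem flat_getD : ∀ j, j < 24 →
    (((List.range 6).map fun k => orb4 (decV (baseC k))).flatten).getD j [] = coords (spanV j : GolayPt → ℤ) := by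
  intro j hj
  have hc : ∀ k < 6, decV (baseC k) = coords (lv (baseC k) : GolayPt → ℤ) := fun k hk => (coords_lv (base_good hk)).symm
  rw [show (List.range 6).map (fun k => orb4 (decV (baseC k))) =
    (List.range 6).map (fun k => orb4 (coords (lv (baseC k) : GolayPt → ℤ))) from
      List.map_congr_left fun k hk => by rw [hc k (List.mem_range.1 hk)]]
  simp only [spanV]
  rw [show (List.range 6) = [0, 1, 2, 3, 4, 5] from rfl]
  simp only [List.map_cons, List.map_nil, List.flatten_cons, List.flatten_nil, orb4, List.cons_append, List.nil_append]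
  interval_cases j <;>
    simp only [List.getD_cons_succ, List.getD_cons_zero, Nat.reduceMod, Nat.reduceDiv, pow_succ, pow_zero, one_mul,
      one_smul, mul_smul, coords_elA]

theorem e8_span (i : Fin 24) : e8 (gpt i) = ∑ j : Fin 24, coefC i j.val • spanV j.val := by
  have h := span_ok
  simp only [spanB, forceZZ_eq, List.all_eq_true, beq_iff_eq] at h
  refine Subtype.ext (funext fun p => ?_)
  have hp := h i (List.mem_finRange _) (gidx p) (List.mem_finRange _)
  rw [← coords_e8, coords_getD, gpt_gidx] at hp
  rw [← hp, AddSubgroup.val_finsetSum, Finset.sum_apply,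
    Finset.sum_fin_eq_sum_range]
  rw [show ((List.range 24).map fun j => coefC i j *
      ((((List.range 6).map fun k => orb4 (decV (baseC k))).flatten).getD j []).getD (gidx p).val 0).sum =
    ∑ j ∈ Finset.range 24, coefC i j *
      ((((List.range 6).map fun k => orb4 (decV (baseC k))).flatten).getD j []).getD (gidx p).val 0 from rfl]
  refine Finset.sum_congr rfl fun j hj => ?_
  rw [Finset.mem_range] at hj
  rw [dif_pos hj, flat_getD j hj, coords_getD, gpt_gidx, AddSubgroup.coe_zsmul, Pi.smul_apply, smul_eq_mul]

theorem eq_of_base {g h : Co0} (hg : g * elA = elA * g) (hh : h * elA = elA * h)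
    (e : ∀ k < 6, g • lv (baseC k) = h • lv (baseC k)) : g = h := by
  refine Cfsg.Lib.Co1Out.co0_ext fun p => ?_
  rw [← gpt_gidx p, e8_span]
  show co0Hom g _ = co0Hom h _
  rw [map_sum, map_sum]
  refine Finset.sum_congr rfl fun j _ => ?_
  rw [map_zsmul, map_zsmul]
  refine congrArg _ ?_
  show g • spanV j.val = h • spanV j.val
  have cg : Commute g (elA ^ (j.val % 4)) := Commute.pow_right hg _
  have ch : Commute h (elA ^ (j.val % 4)) := Commute.pow_right hh _
  rw [spanV, ← mul_smul, ← mul_smul, cg.eq, ch.eq, mul_smul, mul_smul, e _ (by omega)]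

theorem sameDots_orb (x u : List ℤ) : ∀ (l : List ℕ) (P B : ℕ → List ℤ),
    (∀ i ∈ l, dotList (P i) x = dotList (B i) u ∧ dotList (act 0 (P i)) x = dotList (act 0 (B i)) u ∧
      dotList (act 0 (act 0 (P i))) x = dotList (act 0 (act 0 (B i))) u ∧
      dotList (act 0 (act 0 (act 0 (P i)))) x = dotList (act 0 (act 0 (act 0 (B i)))) u) →
    sameDots ((l.map fun i => orb4 (P i)).flatten) ((l.map fun i => orb4 (B i)).flatten) x u = true
  | [], _, _, _ => rfl
  | i :: l, P, B, h => by
    obtain ⟨h1, h2, h3, h4⟩ := h i (by simp)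
    have ih := sameDots_orb x u l P B fun j hj => h j (List.mem_cons_of_mem _ hj)
    simp only [List.map_cons, List.flatten_cons]
    rw [orb4, orb4]
    simp only [List.cons_append, List.nil_append, sameDots, h1, h2, h3, h4, BEq.rfl, Bool.true_and]
    exact ih

/-- The centraliser. -/
abbrev CA : Subgroup Co0 := Subgroup.centralizer ({elA} : Set Co0)

theorem comm_of_mem {g : Co0} (hg : g ∈ CA) : g * elA = elA * g := (Subgroup.mem_centralizer_singleton_iff.1 hg)

theorem dots_of_comm {g : Co0} (hg : g * elA = elA * g) (v w : leechLattice) :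
    let V := coords (v : GolayPt → ℤ)
    let W := coords (w : GolayPt → ℤ)
    let P := coords ((g • v : leechLattice) : GolayPt → ℤ)
    let Q := coords ((g • w : leechLattice) : GolayPt → ℤ)
    dotList P Q = dotList V W ∧ dotList (act 0 P) Q = dotList (act 0 V) W ∧
      dotList (act 0 (act 0 P)) Q = dotList (act 0 (act 0 V)) W ∧
      dotList (act 0 (act 0 (act 0 P))) Q = dotList (act 0 (act 0 (act 0 V))) W := by
  have c : ∀ u : leechLattice, elA • g • u = g • elA • u := fun u => by rw [← mul_smul, ← mul_smul, hg]
  simp only [← coords_elA, dotList_coords, c, co0_dot, and_self]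

theorem self_of_comm {g : Co0} (hg : g * elA = elA * g) (v : leechLattice) :
    dotList (coords ((g • v : leechLattice) : GolayPt → ℤ)) (act 0 (coords ((g • v : leechLattice) : GolayPt → ℤ))) =
      dotList (coords (v : GolayPt → ℤ)) (act 0 (coords (v : GolayPt → ℤ))) := by
  have c : elA • g • v = g • elA • v := by rw [← mul_smul, ← mul_smul, hg]
  rw [← coords_elA, ← coords_elA, dotList_coords, dotList_coords, c, co0_dot]

theorem step_ok : ∀ k, k < 5 → stepB k = true := by
  intro k h
  interval_cases k
  exacts [step_ok0, step_ok1, step_ok2, step_ok3, step_ok4]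

theorem exists_leaf {g : Co0} (hg : g * elA = elA * g) (h0 : g • v0 = v0) :
    ∃ c : ℕ → ℕ, (∀ k, 1 ≤ k → k < 6 → coords ((g • lv (baseC k) : leechLattice) : GolayPt → ℤ) = decV (c k)) ∧
      (List.range 5).map (fun i => c (i + 1)) ∈ stageOf 5 := by
  classical
  have hb := base_ok
  simp only [baseB, Bool.and_eq_true, List.all_eq_true, List.mem_range, beq_iff_eq] at hb
  have hex : ∀ k, 1 ≤ k → k < 6 → ∃ c ∈ nearL,
      coords ((g • lv (baseC k) : leechLattice) : GolayPt → ℤ) = decV c := fun k h1 h2 => by
    refine near_complete (mem_shell.2 ⟨(g • lv (baseC k)).2,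
      (co0_sqNorm g _).trans (sqNorm_lv (base_good h2))⟩) ?_
    conv_lhs => rw [← h0]
    rw [co0_dot, ← dotList_coords, v0, coords_lv (base_good (by norm_num)), coords_lv (base_good h2)]
    have := hb.2 (k - 1) (by omega)
    rwa [show k - 1 + 1 = k by omega] at this
  let c : ℕ → ℕ := fun k => if h : 1 ≤ k ∧ k < 6 then (hex k h.1 h.2).choose else 0
  have hc : ∀ k, 1 ≤ k → k < 6 → c k ∈ nearL ∧
      coords ((g • lv (baseC k) : leechLattice) : GolayPt → ℤ) = decV (c k) := fun k h1 h2 => by
    simp only [c, dif_pos (And.intro h1 h2)]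
    exact (hex k h1 h2).choose_spec
  refine ⟨c, fun k h1 h2 => (hc k h1 h2).2, ?_⟩
  have hd : ∀ k < 6, decV (baseC k) = coords (lv (baseC k) : GolayPt → ℤ) := fun k hk => (coords_lv (base_good hk)).symm
  have cand : ∀ k, 1 ≤ k → k < 6 → ∃ l ∈ candOf k, c k ∈ l := fun k h1 h2 => by
    obtain ⟨n, hn, hm⟩ := mem_part (hc k h1 h2).1
    have h : sieveB n = true := by
      interval_cases n
      exacts [sieve_ok0, sieve_ok1, sieve_ok2, sieve_ok3, sieve_ok4, sieve_ok5, sieve_ok6, sieve_ok7]
    simp only [sieveB, forceZZ_eq, forceZ_eq, List.all_eq_true, Bool.or_eq_true, Bool.not_eq_true',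
      List.mem_range] at h
    have h' := h (c k) hm (k - 1) (by omega)
    rw [show k - 1 + 1 = k by omega] at h'
    rcases h' with h' | h'
    · exfalso
      have e := dots_of_comm hg v0 (lv (baseC k))
      simp only [h0] at e
      rw [(hc k h1 h2).2, ← hd k h2, v0, ← hd 0 (by norm_num)] at e
      refine Bool.false_ne_true (h'.symm.trans ?_)
      rw [beq_iff_eq, List.getD_eq_getElem _ _ (by simp; omega)]
      simp only [List.getElem_map, List.getElem_range, show k - 1 + 1 = k by omega, orb4, List.map_cons, List.map_nil,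
        e.1, e.2.1, e.2.2.1, e.2.2.2]
    · simp only [List.any_eq_true, Nat.beq_eq] at h'
      obtain ⟨l, hl, d, hd', rfl⟩ := h'
      exact ⟨l, hl, hd'⟩
  have key : ∀ k, k ≤ 5 → (List.range k).map (fun i => c (i + 1)) ∈ stageOf k := by
    intro k hk
    induction k with
    | zero => simp [stageOf]
    | succ k ih =>
      have h := step_ok k (by omega)
      simp only [stepB, forceZZ_eq, forceZ_eq, List.all_eq_true, Bool.or_eq_true, Bool.not_eq_true',
        List.any_eq_true, beq_iff_eq] at h
      obtain ⟨l, hl, hcl⟩ := cand (k + 1) (by omega) (by omega)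
      rcases h _ (ih (by omega)) l hl _ hcl with h | ⟨q, hq, rfl⟩
      · exfalso
        rw [List.map_map] at h
        simp only [prevOrb, Function.comp_def] at h
        have hs := sameDots_orb (decV (c (k + 1))) (decV (baseC (k + 1))) (List.range k)
          (fun i => decV (c (i + 1))) (fun i => decV (baseC (i + 1))) fun i hi => by
            rw [List.mem_range] at hi
            rw [← (hc (k + 1) (by omega) (by omega)).2, ← (hc (i + 1) (by omega) (by omega)).2,
              hd (k + 1) (by omega), hd (i + 1) (by omega)]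
            exact dots_of_comm hg _ _
        have hself : dotList (decV (c (k + 1))) (act 0 (decV (c (k + 1)))) =
            dotList (decV (baseC (k + 1))) (act 0 (decV (baseC (k + 1)))) := by
          rw [← (hc (k + 1) (by omega) (by omega)).2, hd (k + 1) (by omega)]
          exact self_of_comm hg _
        rw [hs, hself] at h
        simp at h
      · rw [List.range_succ, List.map_append, List.map_singleton]
        exact hq
  exact key 5 le_rfl

theorem card_fix_le : Nat.card {g : ↥CA // (g : Co0) • v0 = v0} ≤ 160 := by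
  classical
  choose c hc hm using fun g : {g : ↥CA // (g : Co0) • v0 = v0} => exists_leaf (comm_of_mem g.1.2) g.2
  let T : {g : ↥CA // (g : Co0) • v0 = v0} → {l : List ℕ // l ∈ (stageOf 5).toFinset} :=
    fun g => ⟨_, List.mem_toFinset.2 (hm g)⟩
  have hinj : Function.Injective T := by
    intro g h e
    have e' := congrArg Subtype.val e
    refine Subtype.ext (Subtype.ext (eq_of_base (comm_of_mem g.1.2) (comm_of_mem h.1.2) fun k hk => ?_))
    rcases Nat.eq_zero_or_pos k with rfl | h1
    · exact g.2.trans h.2.symm
    · have hck : c g k = c h k := by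
        have hk' : k - 1 ∈ List.range 5 := List.mem_range.2 (by omega)
        have := (List.map_inj_left (f := fun i => c g (i + 1)) (g := fun i => c h (i + 1))).1 e' _ hk'
        rwa [show k - 1 + 1 = k by omega] at this
      exact coords_congr (by rw [hc g k h1 hk, hc h k h1 hk, hck])
  refine (Nat.card_le_card_of_injective T hinj).trans ?_
  rw [Nat.card_eq_fintype_card, Fintype.card_coe]
  exact (List.toFinset_card_le _).trans stage_len.le

theorem card_CA_le : Nat.card ↥CA ≤ 6048000 := by
  haveI := finite_Co0
  classical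
  have hX : ∀ g : ↥CA, (g : Co0) • v0 ∈ Xset := fun g => by
    refine ⟨(co0_sqNorm _ _).trans v0_mem.1, ?_⟩
    rw [← mul_smul, ← comm_of_mem g.2, mul_smul, co0_dot]
    exact v0_mem.2
  haveI : Finite ↥Xset := Set.Finite.to_subtype (Set.finite_of_ncard_ne_zero (by rw [ncard_Xset]; norm_num))
  have hfix : Nat.card ↥(MulAction.stabilizer ↥CA v0) ≤ 160 := card_fix_le
  have horb : Nat.card ↥(MulAction.orbit ↥CA v0) ≤ 37800 := by
    refine (Nat.card_mono (Set.finite_of_ncard_ne_zero (by rw [ncard_Xset]; norm_num)) ?_).trans ncard_Xset.le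
    rintro _ ⟨g, rfl⟩
    exact hX g
  rw [← (MulAction.stabilizer ↥CA v0).card_mul_index, MulAction.index_stabilizer, ← Nat.card_coe_set_eq]
  exact (Nat.mul_le_mul hfix horb).trans (by norm_num)

end Cfsg.Lib.CoJ2
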